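import Groth.Agent.S12124
import Groth.Prelude.Def_FEt
import Mathlib

/-!
# Sections over the punctured spectrum are integral when the normalization has dimension at least two
-/

set_option autoImplicit false
set_option linter.style.haveILetI false

universe u

open CategoryTheory AlgebraicGeometry Opposite IsLocalRing

namespace Groth.Agent.Punct7

/-- A reduced ring: an element outside all minimal primes is a nonzero divisor. -/
theorem mem_nonZeroDivisors_of_forall_notMem {A : Type u} [CommRing A] [IsReduced A] {t : A}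
    (ht : ∀ P ∈ minimalPrimes A, t ∉ P) : t ∈ nonZeroDivisors A := by
  rw [mem_nonZeroDivisors_iff_right]
  intro x hx
  have h1 : x ∈ sInf (minimalPrimes A) := Submodule.mem_sInf.2 fun P hP =>
    ((Ideal.minimalPrimes_isPrime hP).mem_or_mem (hx ▸ P.zero_mem : x * t ∈ P)).resolve_right (ht P hP)
  have h2 : sInf (minimalPrimes A) = nilradical A := Ideal.sInf_minimalPrimes
  rw [h2, nilradical_eq_zero] at h1
  exact h1

theorem eq_zero_of_mem_minimalPrimes {A : Type u} [CommRing A] [IsReduced A] {x : A}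
    (hx : ∀ P ∈ minimalPrimes A, x ∈ P) : x = 0 := by
  have h1 : x ∈ sInf (minimalPrimes A) := Submodule.mem_sInf.2 hx
  have h2 : sInf (minimalPrimes A) = nilradical A := Ideal.sInf_minimalPrimes
  rw [h2, nilradical_eq_zero] at h1
  exact h1

/-- A domain whose normalization has all maximal ideals of height at least two. -/
theorem isIntegral_of_forall_exists (B : Type u) [CommRing B] [IsDomain B] [IsNoetherianRing B] [IsLocalRing B]
    (hB : ∀ (n : Ideal ↥(integralClosure B (FractionRing B))), n.IsMaximal → 2 ≤ n.height)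
    (y : FractionRing B)
    (hy : ∀ q : Ideal B, q.IsPrime → q ≠ maximalIdeal B →
      ∃ (s : B) (a : B), s ∉ q ∧ algebraMap B (FractionRing B) s * y = algebraMap B (FractionRing B) a) :
    IsIntegral B y := by
  obtain ⟨C, hfin, -, hmem, -⟩ := S12124.result (A := B)
  have hle : C ≤ integralClosure B (FractionRing B) := fun x hx =>
    (Algebra.IsIntegral.isIntegral (R := B) (⟨x, hx⟩ : C)).map C.val
  refine (mem_integralClosure_iff B (FractionRing B)).1 ((hmem y).2 fun p _ hp => ?_)
  have hqne : p.comap (algebraMap B C) ≠ maximalIdeal B := by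
    intro he
    haveI : (p.comap (algebraMap B C)).IsMaximal := by rw [he]; infer_instance
    haveI : p.IsMaximal := Ideal.isMaximal_of_isIntegral_of_isMaximal_comap (R := B) p inferInstance
    let inc : ↥C →ₐ[B] ↥(integralClosure B (FractionRing B)) := Subalgebra.inclusion hle
    letI : Algebra ↥C ↥(integralClosure B (FractionRing B)) := inc.toRingHom.toAlgebra
    haveI : IsScalarTower B ↥C ↥(integralClosure B (FractionRing B)) :=
      IsScalarTower.of_algebraMap_eq fun b => (inc.commutes b).symm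
    haveI : Algebra.IsIntegral ↥C ↥(integralClosure B (FractionRing B)) :=
      Algebra.IsIntegral.tower_top B
    have hinj : RingHom.ker (algebraMap ↥C ↥(integralClosure B (FractionRing B))) ≤ p := by
      have hi : Function.Injective (algebraMap ↥C ↥(integralClosure B (FractionRing B))) :=
        Subalgebra.inclusion_injective hle
      rw [(RingHom.injective_iff_ker_eq_bot _).1 hi]
      exact bot_le
    obtain ⟨n, hn, hnp⟩ := Ideal.exists_ideal_over_maximal_of_isIntegral p hinj
    haveI := hn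
    have h2 := hB n hn
    have hmono : StrictMono (PrimeSpectrum.comap (algebraMap ↥C ↥(integralClosure B (FractionRing B)))) :=
      fun a b hab => Ideal.IsIntegral.comap_lt_comap (show a.asIdeal < b.asIdeal from hab)
    have h3 := Order.height_le_height_apply_of_strictMono _ hmono ⟨n, hn.isPrime⟩
    rw [← PrimeSpectrum.height_eq_orderHeight, ← PrimeSpectrum.height_eq_orderHeight] at h3
    change n.height ≤ (n.comap (algebraMap ↥C ↥(integralClosure B (FractionRing B)))).height at h3
    rw [hnp, hp] at h3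
    exact absurd (h2.trans h3) (by decide)
  obtain ⟨s, a, hs, hsa⟩ := hy _ inferInstance hqne
  refine ⟨algebraMap B C s, hs, ?_⟩
  change IsIntegral C (algebraMap B (FractionRing B) s * y)
  rw [hsa, IsScalarTower.algebraMap_apply B C (FractionRing B)]
  exact isIntegral_algebraMap

variable {A : Type u} [CommRing A] [IsReduced A]

/-- The projection of the total ring of fractions to the fraction field of a component. -/
noncomputable def proj (P : Ideal A) [P.IsPrime] (hP : P ∈ minimalPrimes A) :
    FractionRing A →+* FractionRing (A ⧸ P) :=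
  IsLocalization.lift (M := nonZeroDivisors A)
    (g := (algebraMap (A ⧸ P) (FractionRing (A ⧸ P))).comp (Ideal.Quotient.mk P)) fun t =>
      isUnit_iff_ne_zero.2 fun h => by
        have h' : Ideal.Quotient.mk P (t : A) = 0 :=
          IsFractionRing.injective (A ⧸ P) (FractionRing (A ⧸ P)) (h.trans (map_zero _).symm)
        exact notMem_nonZeroDivisors_of_mem_mem_minimalPrimes (Ideal.Quotient.eq_zero_iff_mem.1 h') hP t.2

omit [IsReduced A] in
theorem proj_algebraMap (P : Ideal A) [P.IsPrime] (hP : P ∈ minimalPrimes A) (a : A) :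
    proj P hP (algebraMap A (FractionRing A) a) =
      algebraMap (A ⧸ P) (FractionRing (A ⧸ P)) (Ideal.Quotient.mk P a) :=
  IsLocalization.lift_eq _ a

theorem eq_zero_of_proj (x : FractionRing A)
    (hx : ∀ (P : Ideal A) [P.IsPrime] (hP : P ∈ minimalPrimes A), proj P hP x = 0) : x = 0 := by
  obtain ⟨⟨a, t⟩, h⟩ := IsLocalization.surj (nonZeroDivisors A) x
  have ha : a = 0 := eq_zero_of_mem_minimalPrimes fun P hP => by
    haveI := Ideal.minimalPrimes_isPrime hP
    have h1 := congrArg (proj P hP) h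
    rw [map_mul, hx P hP, zero_mul, proj_algebraMap] at h1
    exact Ideal.Quotient.eq_zero_iff_mem.1
      (IsFractionRing.injective (A ⧸ P) (FractionRing (A ⧸ P)) (h1.symm.trans (map_zero _).symm))
  rw [ha, map_zero] at h
  exact (IsLocalization.map_units (FractionRing A) t).mul_left_eq_zero.1 h

omit [IsReduced A] in
theorem proj_isIntegral {x : FractionRing A} (hx : IsIntegral A x) (P : Ideal A) [P.IsPrime]
    (hP : P ∈ minimalPrimes A) : IsIntegral (A ⧸ P) (proj P hP x) := by
  obtain ⟨f, hf, hfx⟩ := hx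
  refine ⟨f.map (Ideal.Quotient.mk P), hf.map _, ?_⟩
  have h := congrArg (proj P hP) hfx
  rw [map_zero, Polynomial.hom_eval₂] at h
  rw [Polynomial.eval₂_map, ← h]
  refine congrArg (fun g => Polynomial.eval₂ g (proj P hP x) f) (RingHom.ext fun a => ?_)
  exact (proj_algebraMap P hP a).symm

variable [IsNoetherianRing A]

theorem exists_monic_kill (x : FractionRing A) (P : Ideal A) [P.IsPrime] (hP : P ∈ minimalPrimes A)
    (hx : IsIntegral (A ⧸ P) (proj P hP x)) :
    ∃ f : Polynomial A, f.Monic ∧
      proj P hP (Polynomial.eval₂ (algebraMap A (FractionRing A)) x f) = 0 := by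
  obtain ⟨g, hg, hgx⟩ := hx
  have hgl : g ∈ Polynomial.lifts (Ideal.Quotient.mk P) :=
    (Polynomial.mem_lifts g).2 (Polynomial.map_surjective _ Ideal.Quotient.mk_surjective g)
  obtain ⟨f, hfg, -, hf⟩ := Polynomial.lifts_and_degree_eq_and_monic hgl hg
  refine ⟨f, hf, ?_⟩
  have h1 : (proj P hP).comp (algebraMap A (FractionRing A)) =
      (algebraMap (A ⧸ P) (FractionRing (A ⧸ P))).comp (Ideal.Quotient.mk P) :=
    RingHom.ext fun a => proj_algebraMap P hP a
  rw [Polynomial.hom_eval₂, h1, ← Polynomial.eval₂_map, hfg]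
  exact hgx

theorem isIntegral_of_proj (x : FractionRing A)
    (hx : ∀ (P : Ideal A) [P.IsPrime] (hP : P ∈ minimalPrimes A), IsIntegral (A ⧸ P) (proj P hP x)) :
    IsIntegral A x := by
  classical
  have hex : ∀ P : Ideal A, ∃ f : Polynomial A, f.Monic ∧ ∀ (_ : P.IsPrime) (hP : P ∈ minimalPrimes A),
      proj P hP (Polynomial.eval₂ (algebraMap A (FractionRing A)) x f) = 0 := fun P => by
    by_cases hP : P ∈ minimalPrimes A
    · haveI := Ideal.minimalPrimes_isPrime hP
      obtain ⟨f, hf, hfx⟩ := exists_monic_kill x P hP (hx P hP)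
      exact ⟨f, hf, fun _ _ => hfx⟩
    · exact ⟨1, Polynomial.monic_one, fun _ h => (hP h).elim⟩
  choose f hf hfx using hex
  refine ⟨∏ P ∈ (minimalPrimes.finite_of_isNoetherianRing A).toFinset, f P,
    Polynomial.monic_prod_of_monic _ _ fun P _ => hf P, ?_⟩
  refine eq_zero_of_proj _ fun P hP' hP => ?_
  rw [Polynomial.eval₂_finsetProd, map_prod]
  exact Finset.prod_eq_zero ((minimalPrimes.finite_of_isNoetherianRing A).mem_toFinset.2 hP) (hfx P hP' hP)

/-- Elements separating a minimal prime from the others. -/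
theorem exists_separating (P : Ideal A) (hP : P ∈ minimalPrimes A) :
    ∃ a b : A, a ∉ P ∧ b ∈ P ∧ ∀ P' ∈ minimalPrimes A, P' ≠ P → a ∈ P' ∧ b ∉ P' := by
  classical
  let s : Finset (Ideal A) := (minimalPrimes.finite_of_isNoetherianRing A).toFinset.erase P
  have hs : ∀ Q ∈ s, Q.IsPrime ∧ ¬ Q ≤ P ∧ ¬ P ≤ Q := fun Q hQ => by
    obtain ⟨hne, hQ'⟩ := Finset.mem_erase.1 hQ
    have hQm := (minimalPrimes.finite_of_isNoetherianRing A).mem_toFinset.1 hQ'
    exact ⟨Ideal.minimalPrimes_isPrime hQm,
      fun h => hne (le_antisymm h (hP.2 ⟨Ideal.minimalPrimes_isPrime hQm, bot_le⟩ h)),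
      fun h => hne (le_antisymm (hQm.2 ⟨Ideal.minimalPrimes_isPrime hP, bot_le⟩ h) h)⟩
  have ha : ¬ s.inf id ≤ P := by
    rw [(Ideal.minimalPrimes_isPrime hP).inf_le']
    rintro ⟨Q, hQ, h⟩
    exact (hs Q hQ).2.1 h
  obtain ⟨a, ha1, ha2⟩ := SetLike.not_le_iff_exists.1 ha
  have hb : ¬ (P : Set A) ⊆ ⋃ Q ∈ (↑s : Set (Ideal A)), ((fun Q : Ideal A => Q) Q : Set A) := by
    intro hsub
    obtain ⟨Q, hQ, h⟩ := (Ideal.subset_union_prime (f := fun Q : Ideal A => Q) ⊥ ⊥
      fun Q hQ _ _ => (hs Q hQ).1).1 hsub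
    exact (hs Q hQ).2.2 h
  obtain ⟨b, hb1, hb2⟩ := Set.not_subset.1 hb
  refine ⟨a, b, ha2, hb1, fun P' hP' hne => ?_⟩
  have hm : P' ∈ s := Finset.mem_erase.2
    ⟨hne, (minimalPrimes.finite_of_isNoetherianRing A).mem_toFinset.2 hP'⟩
  exact ⟨Finset.inf_le (f := id) hm ha1, fun h => hb2 (Set.mem_biUnion hm h)⟩

/-- Heights along a surjection which is injective near the prime. -/
theorem height_comap_le {R S : Type u} [CommRing R] [CommRing S] (ρ : R →+* S) (hsurj : Function.Surjective ρ)
    (n : Ideal S) [n.IsPrime] (hker : ∀ q : Ideal R, q.IsPrime → q ≤ n.comap ρ → RingHom.ker ρ ≤ q) :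
    (n.comap ρ).height ≤ n.height := by
  haveI : (n.comap ρ).IsPrime := Ideal.IsPrime.comap ρ
  have e1 := PrimeSpectrum.height_eq_orderHeight (⟨n.comap ρ, inferInstance⟩ : PrimeSpectrum R)
  have e2 := PrimeSpectrum.height_eq_orderHeight (⟨n, inferInstance⟩ : PrimeSpectrum S)
  simp only at e1 e2
  rw [e1, e2]
  refine Order.height_le fun l hl => ?_
  have hle : ∀ i, (l i).asIdeal ≤ n.comap ρ := fun i => by
    have h := l.monotone (Fin.le_last i)
    rw [show l (Fin.last _) = l.last from rfl, hl] at h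
    exact h
  have hk : ∀ i, RingHom.ker ρ ≤ (l i).asIdeal := fun i => hker _ (l i).isPrime (hle i)
  let g : Fin (l.length + 1) → PrimeSpectrum S := fun i =>
    ⟨(l i).asIdeal.map ρ, Ideal.map_isPrime_of_surjective hsurj (hk i)⟩
  have hg : ∀ i, ((g i).asIdeal).comap ρ = (l i).asIdeal := fun i => by
    change ((l i).asIdeal.map ρ).comap ρ = (l i).asIdeal
    rw [Ideal.comap_map_of_surjective' ρ hsurj, sup_eq_left.2 (hk i)]
  have hmono : StrictMono g := fun i j hij => by
    have h1 : (l i).asIdeal < (l j).asIdeal := l.strictMono hij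
    refine lt_of_le_of_ne (show (g i).asIdeal ≤ (g j).asIdeal from Ideal.map_mono h1.le) fun e => ?_
    exact h1.ne (by rw [← hg i, ← hg j, e])
  exact Order.length_le_height (p := LTSeries.mk l.length g hmono)
    (Ideal.map_le_iff_le_comap.2 (hle (Fin.last _)))

/-- Lifting from a component by zero on the others. -/
theorem exists_lift (P : Ideal A) [P.IsPrime] (hP : P ∈ minimalPrimes A) (y : FractionRing (A ⧸ P)) :
    ∃ z : FractionRing A, proj P hP z = y ∧
      ∀ (P' : Ideal A) [P'.IsPrime] (hP' : P' ∈ minimalPrimes A), P' ≠ P → proj P' hP' z = 0 := by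
  obtain ⟨a, b, ha, hb, hab⟩ := exists_separating P hP
  have hnzd : ∀ s : A, s ∉ P → s * a + b ∈ nonZeroDivisors A := fun s hs =>
    mem_nonZeroDivisors_of_forall_notMem fun P' hP' h => by
      haveI := Ideal.minimalPrimes_isPrime hP'
      by_cases he : P' = P
      · subst he
        exact ((Ideal.IsPrime.mem_or_mem ‹_› ((P'.add_mem_iff_left hb).1 h)).elim hs ha)
      · exact (hab P' hP' he).2 ((P'.add_mem_iff_right (P'.mul_mem_left s (hab P' hP' he).1)).1 h)
  obtain ⟨⟨c, t⟩, hy⟩ := IsLocalization.surj (nonZeroDivisors (A ⧸ P)) y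
  obtain ⟨c', rfl⟩ := Ideal.Quotient.mk_surjective c
  obtain ⟨s, hs⟩ := Ideal.Quotient.mk_surjective (t : A ⧸ P)
  have hsP : s ∉ P := fun h =>
    nonZeroDivisors.ne_zero t.2 (hs ▸ Ideal.Quotient.eq_zero_iff_mem.2 h)
  refine ⟨IsLocalization.mk' _ (c' * a) (⟨s * a + b, hnzd s hsP⟩ : nonZeroDivisors A), ?_,
    fun P' _ hP' hne => ?_⟩
  · have h := congrArg (proj P hP) (IsLocalization.mk'_spec (FractionRing A) (c' * a)
      (⟨s * a + b, hnzd s hsP⟩ : nonZeroDivisors A))
    rw [map_mul, proj_algebraMap, proj_algebraMap, map_mul, map_add, Ideal.Quotient.eq_zero_iff_mem.2 hb,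
      add_zero, map_mul, hs, map_mul, map_mul] at h
    have hne : algebraMap (A ⧸ P) (FractionRing (A ⧸ P)) (t : A ⧸ P) *
        algebraMap (A ⧸ P) (FractionRing (A ⧸ P)) (Ideal.Quotient.mk P a) ≠ 0 := by
      rw [← map_mul]
      intro h0
      have := IsFractionRing.injective (A ⧸ P) (FractionRing (A ⧸ P)) (h0.trans (map_zero _).symm)
      rw [← hs, ← map_mul] at this
      exact (Ideal.IsPrime.mem_or_mem ‹_› (Ideal.Quotient.eq_zero_iff_mem.1 this)).elim hsP ha
    refine mul_right_cancel₀ hne (h.trans ?_)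
    rw [← hy]
    ring
  · have h := congrArg (proj P' hP') (IsLocalization.mk'_spec (FractionRing A) (c' * a)
      (⟨s * a + b, hnzd s hsP⟩ : nonZeroDivisors A))
    rw [map_mul, proj_algebraMap, proj_algebraMap,
      Ideal.Quotient.eq_zero_iff_mem.2 (P'.mul_mem_left c' (hab P' hP' hne).1), map_zero] at h
    refine (mul_eq_zero.1 h).resolve_right fun h0 => ?_
    exact notMem_nonZeroDivisors_of_mem_mem_minimalPrimes (Ideal.Quotient.eq_zero_iff_mem.1
      (IsFractionRing.injective (A ⧸ P') (FractionRing (A ⧸ P')) (h0.trans (map_zero _).symm))) hP' (hnzd s hsP)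

theorem isIntegral_lift (P : Ideal A) [P.IsPrime] (hP : P ∈ minimalPrimes A) (z : FractionRing A)
    (hz : IsIntegral (A ⧸ P) (proj P hP z))
    (hz0 : ∀ (P' : Ideal A) [P'.IsPrime] (hP' : P' ∈ minimalPrimes A), P' ≠ P → proj P' hP' z = 0) :
    IsIntegral A z := by
  refine isIntegral_of_proj z fun P' _ hP' => ?_
  by_cases he : P' = P
  · subst he; exact hz
  · exact (hz0 P' hP' he) ▸ isIntegral_zero

/-- The map of normalizations. -/
noncomputable def normMap (P : Ideal A) [P.IsPrime] (hP : P ∈ minimalPrimes A) :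
    integralClosure A (FractionRing A) →+* integralClosure (A ⧸ P) (FractionRing (A ⧸ P)) :=
  ((proj P hP).comp (integralClosure A (FractionRing A)).toSubring.subtype).codRestrict
    (integralClosure (A ⧸ P) (FractionRing (A ⧸ P))).toSubring fun z => proj_isIntegral z.2 P hP

omit [IsNoetherianRing A] in
theorem normMap_coe (P : Ideal A) [P.IsPrime] (hP : P ∈ minimalPrimes A)
    (z : integralClosure A (FractionRing A)) :
    ((normMap P hP z : integralClosure (A ⧸ P) (FractionRing (A ⧸ P))) : FractionRing (A ⧸ P)) =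
      proj P hP z := rfl

theorem normMap_surjective (P : Ideal A) [P.IsPrime] (hP : P ∈ minimalPrimes A) :
    Function.Surjective (normMap P hP) := fun y => by
  obtain ⟨z, hz, hz0⟩ := exists_lift P hP y.1
  exact ⟨⟨z, isIntegral_lift P hP z (hz ▸ y.2) hz0⟩, Subtype.ext hz⟩

theorem height_le (P : Ideal A) [P.IsPrime] (hP : P ∈ minimalPrimes A)
    (n : Ideal (integralClosure (A ⧸ P) (FractionRing (A ⧸ P)))) [hn : n.IsPrime] :
    (n.comap (normMap P hP)).height ≤ n.height := by
  obtain ⟨e, he, he0⟩ := exists_lift P hP 1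
  have hei : IsIntegral A e := isIntegral_lift P hP e (he ▸ isIntegral_one) he0
  refine height_comap_le _ (normMap_surjective P hP) n fun q hq hle z hz => ?_
  have hze : z * ⟨e, hei⟩ = 0 := Subtype.ext (eq_zero_of_proj _ fun P' _ hP' => by
    change proj P' hP' ((z : FractionRing A) * e) = 0
    rw [map_mul]
    by_cases he' : P' = P
    · subst he'
      rw [show proj P' hP' (z : FractionRing A) = 0 from congrArg Subtype.val hz]
      exact zero_mul _
    · rw [he0 P' hP' he', mul_zero])
  refine (hq.mem_or_mem (hze ▸ q.zero_mem : z * ⟨e, hei⟩ ∈ q)).resolve_right fun h => ?_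
  have h1 : normMap P hP ⟨e, hei⟩ = 1 := Subtype.ext he
  exact hn.ne_top ((Ideal.eq_top_iff_one n).2 (h1 ▸ Ideal.mem_comap.1 (hle h)))

end Groth.Agent.Punct7
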