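import Groth.Agent.Punct7.Integral
import Mathlib

/-!
# Sections over the punctured spectrum of a reduced local ring
-/

set_option autoImplicit false
set_option linter.style.haveILetI false
set_option backward.isDefEq.respectTransparency false

universe u

open CategoryTheory AlgebraicGeometry Opposite IsLocalRing TopologicalSpace

namespace Groth.Agent.Punct7

section generic

variable {R : CommRingCat.{u}}

/-- The structure map to the sections over an open. -/
noncomputable def strR (U : (Spec R).Opens) : R →+* Γ(Spec R, U) :=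
  ((Spec R).presheaf.map (homOfLE (le_top : U ≤ ⊤)).op).hom.comp (Scheme.ΓSpecIso R).inv.hom

theorem strR_eq (U : (Spec R).Opens) : strR U = algebraMap R Γ(Spec R, U) := by
  rw [IsAffineOpen.algebraMap_Spec_obj]
  rfl

theorem res_strR {U V : (Spec R).Opens} (h : V ≤ U) (a : R) :
    ((Spec R).presheaf.map (homOfLE h).op).hom (strR U a) = strR V a := by
  simp only [strR, RingHom.comp_apply]
  rw [← CommRingCat.comp_apply, ← Functor.map_comp]
  rfl

theorem boR_surj (g : R) (z : Γ(Spec R, PrimeSpectrum.basicOpen g)) :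
    ∃ (n : ℕ) (a : R), strR (PrimeSpectrum.basicOpen g) g ^ n * z = strR (PrimeSpectrum.basicOpen g) a := by
  obtain ⟨n, a, h⟩ := IsLocalization.Away.surj g z
  refine ⟨n, a, ?_⟩
  rw [strR_eq, mul_comm]
  exact h

theorem boR_eq (g a b : R) (h : strR (PrimeSpectrum.basicOpen g) a = strR (PrimeSpectrum.basicOpen g) b) :
    ∃ n : ℕ, g ^ n * a = g ^ n * b := by
  rw [strR_eq] at h
  obtain ⟨⟨_, n, rfl⟩, hn⟩ := (IsLocalization.eq_iff_exists (Submonoid.powers g)
    Γ(Spec R, PrimeSpectrum.basicOpen g)).1 h
  exact ⟨n, hn⟩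

theorem boR_unit (g : R) : IsUnit (strR (PrimeSpectrum.basicOpen g) g) := by
  rw [strR_eq]
  exact IsLocalization.Away.algebraMap_isUnit g

theorem boR_lift {K : Type u} [CommRing K] (f : R →+* K) (t : R) (ht : IsUnit (f t)) :
    ∃ α : Γ(Spec R, PrimeSpectrum.basicOpen t) →+* K, ∀ a, α (strR (PrimeSpectrum.basicOpen t) a) = f a := by
  refine ⟨IsLocalization.Away.lift t ht, fun a => ?_⟩
  rw [strR_eq]
  exact IsLocalization.Away.lift_eq t ht a

end generic

variable (A : Type u) [CommRing A] [IsNoetherianRing A] [IsLocalRing A] [IsReduced A]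

abbrev bo (g : A) : (Spec (CommRingCat.of A)).Opens :=
  (PrimeSpectrum.basicOpen g : Opens (PrimeSpectrum (CommRingCat.of A)))

omit [IsNoetherianRing A] [IsReduced A] in
theorem basicOpen_le {g : A} (hg : g ∈ maximalIdeal A) :
    bo A g ≤ FEt.puncturedSpec A := by
  intro q hq (he : q = closedPoint A)
  subst he
  exact hq hg

omit [IsNoetherianRing A] [IsReduced A] in
theorem exists_notMem_of_ne {p : Ideal A} (hp : p.IsPrime) (hne : p ≠ maximalIdeal A) :
    ∃ g ∈ maximalIdeal A, g ∉ p := by
  by_contra h
  push_neg at h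
  exact hne (le_antisymm (le_maximalIdeal hp.ne_top) h)

/-- The section ring over an open. -/
abbrev Sec (U : (Spec (CommRingCat.of A)).Opens) : Type u := Γ(Spec (CommRingCat.of A), U)

/-- Restriction. -/
noncomputable def res {U V : (Spec (CommRingCat.of A)).Opens} (h : V ≤ U) : Sec A U →+* Sec A V :=
  ((Spec (CommRingCat.of A)).presheaf.map (homOfLE h).op).hom

/-- The structure map. -/
noncomputable def str (U : (Spec (CommRingCat.of A)).Opens) : A →+* Sec A U :=
  strR U

omit [IsNoetherianRing A] [IsLocalRing A] [IsReduced A] in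
theorem res_str {U V : (Spec (CommRingCat.of A)).Opens} (h : V ≤ U) (a : A) :
    res A h (str A U a) = str A V a :=
  res_strR (R := CommRingCat.of A) h a

omit [IsNoetherianRing A] [IsLocalRing A] [IsReduced A] in
theorem res_res {U V W : (Spec (CommRingCat.of A)).Opens} (h : V ≤ U) (h' : W ≤ V) (s : Sec A U) :
    res A h' (res A h s) = res A (h'.trans h) s := by
  simp only [res]
  rw [← CommRingCat.comp_apply, ← Functor.map_comp]
  rfl

omit [IsNoetherianRing A] [IsLocalRing A] [IsReduced A] in
theorem bo_surj (g : A) (z : Sec A (bo A g)) :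
    ∃ (n : ℕ) (a : A), str A (bo A g) g ^ n * z = str A (bo A g) a :=
  boR_surj (R := CommRingCat.of A) g z

omit [IsNoetherianRing A] [IsLocalRing A] [IsReduced A] in
theorem bo_eq (g a b : A) (h : str A (bo A g) a = str A (bo A g) b) : ∃ n : ℕ, g ^ n * a = g ^ n * b :=
  boR_eq (R := CommRingCat.of A) g a b h

omit [IsNoetherianRing A] [IsLocalRing A] [IsReduced A] in
theorem bo_unit (g : A) : IsUnit (str A (bo A g) g) :=
  boR_unit (R := CommRingCat.of A) g

omit [IsReduced A] in
/-- The value in the total ring of fractions. -/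
theorem exists_val (t : A) (ht : t ∈ maximalIdeal A) (htr : t ∈ nonZeroDivisors A) :
    ∃ φ : Sec A (FEt.puncturedSpec A) →+* FractionRing A, Function.Injective φ ∧
      φ.comp (str A (FEt.puncturedSpec A)) = algebraMap A (FractionRing A) ∧
      ∀ (s : Sec A (FEt.puncturedSpec A)) (g : A), g ∈ maximalIdeal A →
        ∃ (n : ℕ) (a : A), algebraMap A (FractionRing A) (g ^ n) * φ s = algebraMap A (FractionRing A) a := by
  have hu : IsUnit (algebraMap A (FractionRing A) t) :=
    IsLocalization.map_units (FractionRing A) (⟨t, htr⟩ : nonZeroDivisors A)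
  obtain ⟨α', hα'⟩ := boR_lift (R := CommRingCat.of A) (algebraMap A (FractionRing A)) t hu
  let α : Sec A (bo A t) →+* FractionRing A := α'
  have hα : ∀ a : A, α (str A (bo A t) a) = algebraMap A (FractionRing A) a := hα'
  let φ : Sec A (FEt.puncturedSpec A) →+* FractionRing A := α.comp (res A (basicOpen_le A ht))
  -- on each basic open
  have key : ∀ (s : Sec A (FEt.puncturedSpec A)) (g : A) (hg : g ∈ maximalIdeal A), ∃ (n : ℕ) (a : A),
      algebraMap A (FractionRing A) (g ^ n) * φ s = algebraMap A (FractionRing A) a ∧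
        str A (bo A g) g ^ n * res A (basicOpen_le A hg) s = str A (bo A g) a := by
    intro s g hg
    obtain ⟨N, a, ha⟩ := bo_surj A g (res A (basicOpen_le A hg) s)
    obtain ⟨k, c, hc⟩ := bo_surj A t (res A (basicOpen_le A ht) s)
    have h1 : bo A (g * t) ≤ bo A g := PrimeSpectrum.basicOpen_mul_le_left g t
    have h2 : bo A (g * t) ≤ bo A t := PrimeSpectrum.basicOpen_mul_le_right g t
    have ha' := congrArg (res A h1) ha
    have hc' := congrArg (res A h2) hc
    rw [map_mul, map_pow, res_str, res_str, res_res] at ha' hc'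
    have heq : str A (bo A (g * t)) (t ^ k * a) = str A (bo A (g * t)) (g ^ N * c) := by
      rw [map_mul, map_mul, map_pow, map_pow, ← ha', ← hc']
      ring
    obtain ⟨M, hM⟩ := bo_eq A (g * t) _ _ heq
    have hM' : t ^ k * (g ^ M * a) = g ^ (M + N) * c := by
      refine (mul_cancel_left_mem_nonZeroDivisors (pow_mem htr M)).1 ?_
      rw [mul_pow] at hM
      rw [pow_add]
      linear_combination hM
    refine ⟨M + N, g ^ M * a, ?_, ?_⟩
    · have hφ : algebraMap A (FractionRing A) (t ^ k) * φ s = algebraMap A (FractionRing A) c := by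
        have := congrArg α hc
        rw [map_mul, map_pow, hα, hα, ← map_pow] at this
        exact this
      refine (IsUnit.mul_right_inj (IsLocalization.map_units (FractionRing A)
        (⟨t ^ k, pow_mem htr k⟩ : nonZeroDivisors A))).1 ?_
      change algebraMap A (FractionRing A) (t ^ k) * _ = algebraMap A (FractionRing A) (t ^ k) * _
      rw [mul_left_comm, hφ, ← map_mul, ← map_mul, hM']
    · rw [map_mul, map_pow, pow_add, mul_assoc, ha]
  refine ⟨φ, ?_, RingHom.ext fun a => ?_, fun s g hg => ?_⟩
  · rw [injective_iff_map_eq_zero]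
    intro s hs
    refine TopCat.Sheaf.eq_of_locally_eq' (Spec (CommRingCat.of A)).sheaf
      (fun g : maximalIdeal A => bo A g.1) (FEt.puncturedSpec A)
      (fun g => homOfLE (basicOpen_le A g.2)) (fun q hq => ?_) s 0 fun g => ?_
    · obtain ⟨g, hg, hgq⟩ := exists_notMem_of_ne A (q : PrimeSpectrum A).isPrime
        (fun e => hq (PrimeSpectrum.ext e))
      exact Opens.mem_iSup.2 ⟨⟨g, hg⟩, hgq⟩
    · obtain ⟨n, a, h1, h2⟩ := key s g.1 g.2
      rw [hs, mul_zero] at h1
      rw [(IsFractionRing.injective A (FractionRing A) (h1.symm.trans (map_zero _).symm) : a = 0),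
        map_zero] at h2
      change res A (basicOpen_le A g.2) s = res A (basicOpen_le A g.2) 0
      rw [map_zero]
      exact ((bo_unit A g.1).pow n).mul_right_eq_zero.1 h2
  · change α (res A _ (str A _ a)) = _
    rw [res_str, hα]
  · obtain ⟨n, a, h1, -⟩ := key s g hg
    exact ⟨n, a, h1⟩

/-- A nonzero divisor in the maximal ideal. -/
theorem exists_nzd
    (hdim : ∀ (m' : Ideal ↥(integralClosure A (FractionRing A))), m'.IsMaximal →
      m'.comap (algebraMap A ↥(integralClosure A (FractionRing A))) = maximalIdeal A → 2 ≤ m'.height) :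
    ∃ t ∈ maximalIdeal A, t ∈ nonZeroDivisors A := by
  by_contra hne
  push_neg at hne
  have hm : maximalIdeal A ∈ minimalPrimes A := by
    obtain ⟨P, hP, hle⟩ : ∃ P ∈ minimalPrimes A, maximalIdeal A ≤ P := by
      obtain ⟨P, hP, h⟩ := (Ideal.subset_union_prime (f := fun Q : Ideal A => Q) ⊥ ⊥
        fun Q hQ _ _ => Ideal.minimalPrimes_isPrime
          ((minimalPrimes.finite_of_isNoetherianRing A).mem_toFinset.1 hQ)).1
        (fun x hx => by
          by_contra hxn
          exact hne x hx (mem_nonZeroDivisors_of_forall_notMem fun Q hQ hxQ => hxn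
            (Set.mem_biUnion (show Q ∈ (↑(minimalPrimes.finite_of_isNoetherianRing A).toFinset : Set (Ideal A))
              from (minimalPrimes.finite_of_isNoetherianRing A).mem_toFinset.2 hQ) hxQ)))
      exact ⟨P, (minimalPrimes.finite_of_isNoetherianRing A).mem_toFinset.1 hP, h⟩
    rw [(maximalIdeal.isMaximal A).eq_of_le (Ideal.minimalPrimes_isPrime hP).ne_top hle]
    exact hP
  have hker : RingHom.ker (algebraMap A ↥(integralClosure A (FractionRing A))) ≤ maximalIdeal A :=
    le_maximalIdeal (RingHom.ker_ne_top _)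
  obtain ⟨m', hm', hmc⟩ := Ideal.exists_ideal_over_maximal_of_isIntegral (maximalIdeal A) hker
  haveI := hm'
  have h2 := hdim m' hm' hmc
  have hmono : StrictMono (PrimeSpectrum.comap (algebraMap A ↥(integralClosure A (FractionRing A)))) :=
    fun a b hab => Ideal.IsIntegral.comap_lt_comap (show a.asIdeal < b.asIdeal from hab)
  have h3 := Order.height_le_height_apply_of_strictMono _ hmono ⟨m', hm'.isPrime⟩
  rw [← PrimeSpectrum.height_eq_orderHeight, ← PrimeSpectrum.height_eq_orderHeight] at h3
  change m'.height ≤ (m'.comap (algebraMap A ↥(integralClosure A (FractionRing A)))).height at h3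
  rw [hmc, Ideal.height_eq_zero_iff.2 hm] at h3
  exact absurd (h2.trans h3) (by decide)

/-- The main statement. -/
theorem exists_map_integralClosure
    (hdim : ∀ (m' : Ideal ↥(integralClosure A (FractionRing A))), m'.IsMaximal →
      m'.comap (algebraMap A ↥(integralClosure A (FractionRing A))) = maximalIdeal A → 2 ≤ m'.height) :
    ∃ φ : Sec A (FEt.puncturedSpec A) →+* FractionRing A, Function.Injective φ ∧
      φ.comp (str A (FEt.puncturedSpec A)) = algebraMap A (FractionRing A) ∧
      ∀ s, IsIntegral A (φ s) := by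
  obtain ⟨t, ht, htr⟩ := exists_nzd A hdim
  obtain ⟨φ, hφ, hφa, hkey⟩ := exists_val A t ht htr
  refine ⟨φ, hφ, hφa, fun s => isIntegral_of_proj _ fun P _ hP => ?_⟩
  haveI : IsLocalRing (A ⧸ P) :=
    IsLocalRing.of_surjective' (Ideal.Quotient.mk P) Ideal.Quotient.mk_surjective
  refine isIntegral_of_forall_exists (A ⧸ P) (fun n hn => ?_) _ fun q hq hqne => ?_
  · haveI := hn
    haveI : (n.comap (normMap P hP)).IsMaximal :=
      Ideal.comap_isMaximal_of_surjective _ (normMap_surjective P hP)
    refine le_trans (hdim _ inferInstance ?_) (height_le P hP n)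
    have h1 : (normMap P hP).comp (algebraMap A ↥(integralClosure A (FractionRing A))) =
        (algebraMap (A ⧸ P) ↥(integralClosure (A ⧸ P) (FractionRing (A ⧸ P)))).comp (Ideal.Quotient.mk P) :=
      RingHom.ext fun a => Subtype.ext (proj_algebraMap P hP a)
    rw [Ideal.comap_comap, h1, ← Ideal.comap_comap]
    haveI := Ideal.isMaximal_comap_of_isIntegral_of_isMaximal (R := A ⧸ P) n
    exact eq_maximalIdeal (Ideal.comap_isMaximal_of_surjective _ Ideal.Quotient.mk_surjective)
  · have hp : (q.comap (Ideal.Quotient.mk P)).IsPrime := hq.comap _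
    have hpne : q.comap (Ideal.Quotient.mk P) ≠ maximalIdeal A := fun e => by
      refine hqne (eq_maximalIdeal ?_)
      rw [← Ideal.map_comap_of_surjective _ Ideal.Quotient.mk_surjective q, e]
      exact (Ideal.map_eq_top_or_isMaximal_of_surjective _ Ideal.Quotient.mk_surjective
        (maximalIdeal.isMaximal A)).resolve_left fun htop => hq.ne_top (by
          rw [← Ideal.map_comap_of_surjective _ Ideal.Quotient.mk_surjective q, e, htop])
    obtain ⟨g, hg, hgq⟩ := exists_notMem_of_ne A hp hpne
    obtain ⟨n, a, hna⟩ := hkey s g hg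
    refine ⟨Ideal.Quotient.mk P (g ^ n), Ideal.Quotient.mk P a, fun h => hgq (hp.mem_of_pow_mem n h), ?_⟩
    have h := congrArg (proj P hP) hna
    rw [map_mul, proj_algebraMap, proj_algebraMap] at h
    exact h

end Groth.Agent.Punct7
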